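import Groth.Agent.CompleteNagata.Complete
import Groth.Agent.ParaFX.Ufd
import Groth.Agent.EGA41Lib.IntDim
import Groth.Agent.LC.ExtDim
import Groth.Agent.Hensel.Local
import Groth.Agent.RigPt7.Base
import Mathlib.RingTheory.Regular.Flat

/-!
# Minimal primes of flat local algebras over complete domains of dimension at least two
-/

set_option autoImplicit false
set_option linter.style.haveILetI false

universe u

open IsLocalRing TensorProduct

namespace Groth.Agent.H1C2

/-- A finite domain over a henselian local ring is local. -/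
theorem isLocalRing_of_finite_domain (R : Type u) [CommRing R] [HenselianLocalRing R] (S : Type u) [CommRing S]
    [IsDomain S] [Algebra R S] [Module.Finite R S] : IsLocalRing S := by
  obtain ⟨_, e, he, hM⟩ := Hensel.exists_idempotents_of_henselian R S
  obtain ⟨M, hMmax⟩ := Ideal.exists_maximal S
  refine IsLocalRing.of_unique_max_ideal ⟨M, hMmax, fun M' hM' => ?_⟩
  by_contra hne
  let s : MaximalSpectrum S := ⟨M, hMmax⟩
  let s' : MaximalSpectrum S := ⟨M', hM'⟩
  obtain ⟨h1, h2⟩ := hM s
  rcases IsIdempotentElem.iff_eq_zero_or_one.mp (he.idem s) with h | h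
  · exact h1 (h ▸ M.zero_mem)
  · exact hM'.ne_top ((Ideal.eq_top_iff_one M').mpr (h ▸ h2 s' fun h' => hne (congrArg MaximalSpectrum.asIdeal h')))

theorem two_le_depth_of_flat {D L : Type u} [CommRing D] [IsNoetherianRing D] [IsLocalRing D] [CommRing L]
    [IsLocalRing L] [IsNoetherianRing L] [Algebra D L] [Module.Flat D L]
    (hloc : (maximalIdeal D).map (algebraMap D L) ≤ maximalIdeal L) (h : (2 : ℕ∞) ≤ LocCoh.depth D D) :
    (2 : ℕ∞) ≤ LocCoh.depth L L := by
  have hne : ∀ (R : Type u) [CommRing R] [IsLocalRing R],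
      maximalIdeal R • (⊤ : Submodule R R) ≠ ⊤ := fun R _ _ => by
    rw [Ideal.smul_top_eq_map, Algebra.algebraMap_self, Ideal.map_id, Ne, Submodule.restrictScalars_eq_top_iff]
    exact (maximalIdeal.isMaximal R).ne_top
  obtain ⟨rs, hrs, hmem, hlen⟩ := Alg6.exists_length_ge_of_le_idealDepth (hne D) (n := 2) (by exact_mod_cast h)
  rw [LocCoh.depth, LocCoh.idealDepth, if_neg (hne L)]
  refine le_trans ?_ (le_iSup₂_of_le (rs.map (algebraMap D L)) ⟨hrs.of_flat, ?_⟩ le_rfl)
  · rw [List.length_map]; exact_mod_cast hlen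
  · intro r hr
    obtain ⟨a, ha, rfl⟩ := List.mem_map.1 hr
    exact hloc (Ideal.mem_map_of_mem _ (hmem a ha))

/-- Depth at least two at a point bounds the coheight of the minimal primes below it. -/
theorem two_le_coheight {E' : Type u} [CommRing E'] [IsNoetherianRing E'] (n : Ideal E') [n.IsPrime]
    (h : (2 : ℕ∞) ≤ LocCoh.depth (Localization.AtPrime n) (Localization.AtPrime n))
    (q : PrimeSpectrum E') (hq : q.asIdeal ∈ minimalPrimes E') (hqn : q.asIdeal ≤ n) :
    (2 : ℕ∞) ≤ Order.coheight q := by
  obtain ⟨p, hp⟩ : ∃ p : PrimeSpectrum (Localization.AtPrime n),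
      p.asIdeal.comap (algebraMap E' (Localization.AtPrime n)) = q.asIdeal :=
    ⟨⟨_, IsLocalization.isPrime_of_isPrime_disjoint n.primeCompl _ _ q.isPrime
      (Set.disjoint_left.2 fun _ hx hx' => hx (hqn hx'))⟩,
      IsLocalization.comap_map_of_isPrime_disjoint n.primeCompl _ q.isPrime
      (Set.disjoint_left.2 fun _ hx hx' => hx (hqn hx'))⟩
  have hmin : p.asIdeal ∈ minimalPrimes (Localization.AtPrime n) := by
    refine ⟨⟨p.isPrime, bot_le⟩, fun J ⟨hJ, _⟩ hle => ?_⟩
    have h1 := Ideal.comap_mono (f := algebraMap E' (Localization.AtPrime n)) hle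
    rw [hp] at h1
    have h2 := hq.2 ⟨Ideal.IsPrime.comap _ (hK := hJ), bot_le⟩ h1
    have e1 : (Ideal.comap (algebraMap E' (Localization.AtPrime n)) p.asIdeal).map
        (algebraMap E' (Localization.AtPrime n)) = p.asIdeal := IsLocalization.map_comap n.primeCompl _ p.asIdeal
    rw [← e1, hp]
    exact Ideal.map_le_iff_le_comap.2 h2
  have hass : p.asIdeal ∈ associatedPrimes (Localization.AtPrime n) (Localization.AtPrime n) := by
    refine Module.associatedPrimes.minimalPrimes_annihilator_subset_associatedPrimes _ _ ?_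
    rwa [Module.annihilator_eq_bot.mpr inferInstance]
  refine h.trans ((LC.depth_le_coheight_of_ass _ hass).trans ?_)
  have hsm : StrictMono (PrimeSpectrum.comap (algebraMap E' (Localization.AtPrime n))) :=
    Monotone.strictMono_of_injective (fun _ _ hab => Ideal.comap_mono hab)
      (PrimeSpectrum.localization_comap_injective _ n.primeCompl)
  have hpq : PrimeSpectrum.comap (algebraMap E' (Localization.AtPrime n)) p = q := PrimeSpectrum.ext hp
  exact hpq ▸ Order.coheight_le_coheight_apply_of_strictMono _ hsm p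

variable {D E : Type u} [CommRing D] [IsDomain D] [IsLocalRing D] [IsNoetherianRing D]
  [IsAdicComplete (maximalIdeal D) D] [CommRing E] [IsLocalRing E] [IsNoetherianRing E] [Algebra D E]
  [IsLocalHom (algebraMap D E)] [Module.Flat D E]

theorem two_le_dim_quotient (hD : (2 : WithBot ℕ∞) ≤ ringKrullDim D) (q : Ideal E) (hq : q ∈ minimalPrimes E) :
    (2 : WithBot ℕ∞) ≤ ringKrullDim (E ⧸ q) := by
  have hqp : q.IsPrime := hq.1.1
  let D' := integralClosure D (FractionRing D)
  haveI : Module.Finite D D' := CompleteNagata.isN2_of_complete D (FractionRing D) inferInstance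
  haveI : HenselianLocalRing D :=
    { is_henselian := fun f hf a₀ h₁ h₂ => by
        haveI := IsAdicComplete.henselianRing D (maximalIdeal D)
        exact HenselianRing.is_henselian f hf a₀ h₁ (h₂.map _) }
  haveI : IsLocalRing D' := isLocalRing_of_finite_domain D D'
  haveI : IsNoetherianRing D' := Algebra.FiniteType.isNoetherianRing D D'
  haveI : IsIntegrallyClosed D' :=
    (isIntegrallyClosed_iff_isIntegrallyClosedIn (FractionRing D)).2 inferInstance
  have hinjD : Function.Injective (algebraMap D D') := fun a b hab =>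
    IsFractionRing.injective D (FractionRing D) (congrArg Subtype.val hab)
  have hD' : (2 : WithBot ℕ∞) ≤ ringKrullDim D' :=
    hD.trans_eq (EGA41Lib.ringKrullDim_eq_of_integral hinjD).symm
  have hdep := ParaFX.two_le_depth_of_normal D' hD'
  let E' := E ⊗[D] D'
  haveI : IsNoetherianRing E' := Algebra.FiniteType.isNoetherianRing E E'
  have hinj : Function.Injective (algebraMap E E') := by
    have h1 : Function.Injective (LinearMap.lTensor E (Algebra.linearMap D D')) :=
      Module.Flat.lTensor_preserves_injective_linearMap _ hinjD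
    intro a b hab
    apply (TensorProduct.rid D E).symm.injective
    apply h1
    simp only [TensorProduct.rid_symm_apply, LinearMap.lTensor_tmul, Algebra.linearMap_apply, map_one]
    exact hab
  obtain ⟨q', -, hq'p, hq'⟩ := Ideal.exists_ideal_over_prime_of_isIntegral q (⊥ : Ideal E')
    (by rw [show Ideal.comap (algebraMap E E') ⊥ = ⊥ from (RingHom.injective_iff_ker_eq_bot _).1 hinj]; exact bot_le)
  have hq'min : q' ∈ minimalPrimes E' := by
    refine ⟨⟨hq'p, bot_le⟩, fun J ⟨hJ, _⟩ hle => ?_⟩
    by_contra hne
    have hlt := Ideal.IsIntegral.comap_lt_comap (R := E) (lt_of_le_not_ge hle hne)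
    exact not_lt_of_ge (hq.2 ⟨Ideal.IsPrime.comap _ (hK := hJ), bot_le⟩ (hlt.le.trans_eq hq')) (hq' ▸ hlt)
  obtain ⟨n, hn, hqn⟩ := Ideal.exists_le_maximal q' hq'p.ne_top
  haveI : (n.comap (algebraMap E E')).IsMaximal := Ideal.isMaximal_comap_of_isIntegral_of_isMaximal n
  have hnE : n.comap (algebraMap E E') = maximalIdeal E := IsLocalRing.eq_maximalIdeal ‹_›
  letI : Algebra D' E' := Algebra.TensorProduct.rightAlgebra
  haveI : IsScalarTower D D' E' := IsScalarTower.of_algebraMap_eq fun d => by
    show (algebraMap D E' d) = (1 : E) ⊗ₜ[D] algebraMap D D' d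
    rw [IsScalarTower.algebraMap_apply D E E', Algebra.TensorProduct.algebraMap_apply, Algebra.algebraMap_self,
      RingHom.id_apply, Algebra.algebraMap_eq_smul_one, Algebra.algebraMap_eq_smul_one, TensorProduct.smul_tmul]
  haveI : Module.Flat D' E' := by
    refine Module.Flat.of_linearEquiv (R := D') (M := D' ⊗[D] E) (e := ?_)
    exact ((Algebra.TensorProduct.comm D E D').toLinearEquiv.toAddEquiv).toLinearEquiv fun c x => by
      induction x using TensorProduct.induction_on with
      | zero => simp
      | add a b ha hb => simp only [smul_add, map_add, ha, hb]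
      | tmul e d =>
        show Algebra.TensorProduct.comm D E D' (c • (e ⊗ₜ[D] d)) = c • (d ⊗ₜ[D] e)
        rw [Algebra.smul_def, show algebraMap D' E' c = (1 : E) ⊗ₜ[D] c from rfl,
          Algebra.TensorProduct.tmul_mul_tmul, one_mul, Algebra.TensorProduct.comm_tmul, TensorProduct.smul_tmul',
          smul_eq_mul]
  let L := Localization.AtPrime n
  haveI : IsNoetherianRing L := IsLocalization.isNoetherianRing n.primeCompl L inferInstance
  haveI : Module.Flat D' L := Module.Flat.trans D' E' L
  have hloc : (maximalIdeal D').map (algebraMap D' L) ≤ maximalIdeal L := by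
    rw [IsScalarTower.algebraMap_eq D' E' L, ← Ideal.map_map, Ideal.map_le_iff_le_comap,
      ← Ideal.under_def, IsLocalization.AtPrime.comap_maximalIdeal L n, Ideal.map_le_iff_le_comap]
    intro x hx
    haveI : (n.comap (algebraMap D' E')).IsPrime := inferInstance
    have hm : (maximalIdeal D).map (algebraMap D D') ≤ n.comap (algebraMap D' E') := by
      rw [Ideal.map_le_iff_le_comap]
      intro d hd
      rw [Ideal.mem_comap, Ideal.mem_comap, ← IsScalarTower.algebraMap_apply, IsScalarTower.algebraMap_apply D E E']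
      have : algebraMap D E d ∈ n.comap (algebraMap E E') := by
        rw [hnE, mem_maximalIdeal]
        exact fun hu => (mem_maximalIdeal _).1 hd ((isUnit_map_iff _ d).1 hu)
      exact this
    have h0 : (n.comap (algebraMap D' E')).comap (algebraMap D D') = maximalIdeal D :=
      ((maximalIdeal.isMaximal D).eq_of_le (Ideal.IsPrime.comap _).ne_top (Ideal.map_le_iff_le_comap.1 hm)).symm
    haveI : (n.comap (algebraMap D' E')).IsMaximal := by
      refine Ideal.isMaximal_of_isIntegral_of_isMaximal_comap (R := D) _ ?_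
      rw [h0]; infer_instance
    rwa [IsLocalRing.eq_maximalIdeal ‹(n.comap (algebraMap D' E')).IsMaximal›]
  have h2 := two_le_coheight n (two_le_depth_of_flat hloc hdep) ⟨q', hq'p⟩ hq'min hqn
  have hsm : StrictMono (PrimeSpectrum.comap (algebraMap E E')) := fun a b hab =>
    Ideal.IsIntegral.comap_lt_comap (R := E) (I := a.asIdeal) (J := b.asIdeal) hab
  have h3 := h2.trans (Order.coheight_le_coheight_apply_of_strictMono _ hsm _)
  have h4 : (Order.coheight (⟨q, hqp⟩ : PrimeSpectrum E) : WithBot ℕ∞) ≤ ringKrullDim (E ⧸ q) := by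
    rw [← Module.supportDim_quotient_eq_ringKrullDim]
    refine LC.coheight_le_supportDim ?_
    rw [Module.mem_support_iff_of_finite, Ideal.annihilator_quotient]
  refine le_trans ?_ h4
  rw [show (⟨q, hqp⟩ : PrimeSpectrum E) = PrimeSpectrum.comap (algebraMap E E') ⟨q', hq'p⟩ from
    PrimeSpectrum.ext hq'.symm]
  exact WithBot.coe_le_coe.2 h3

end Groth.Agent.H1C2
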