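import Groth.Agent.RigPt7.Base
import Groth.Agent.RigPt7.Comp
import Groth.Agent.RigPt7.FlatAt

/-! Completions of flat maps, descent and extension of flatness to non-open primes. -/

universe u

namespace Groth.Agent.H1C2

open scoped TensorProduct
open AdicCompletion (evalₐ)

/-- The completion of a flat map of Noetherian rings is flat. -/
theorem flat_complMap_of_le {T T' : Type u} [CommRing T] [CommRing T'] [IsNoetherianRing T] [IsNoetherianRing T']
    (g : T →+* T') (hg : g.Flat) (J : Ideal T) (K : Ideal T') (hK : J.map g ≤ K) :
    (FSch.complMap J K g hK).Flat := by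
  let B := AdicCompletion J T
  let R := AdicCompletion K T'
  have : IsNoetherianRing B := FComplLib.isNoetherianRing_adicCompletion _
  have : IsNoetherianRing R := FComplLib.isNoetherianRing_adicCompletion _
  let φ := FSch.complMap J K g hK
  have hφ : ∀ t, φ (algebraMap T B t) = algebraMap T' R (g t) := FComplLib.complMap_algebraMap J K g hK
  letI : Algebra B R := φ.toAlgebra
  letI : Algebra T R := ((algebraMap T' R).comp g).toAlgebra
  haveI : IsScalarTower T B R := IsScalarTower.of_algebraMap_eq fun t => (hφ t).symm
  haveI : Module.Flat T R := RingHom.Flat.comp hg (RingHom.flat_algebraMap_iff.mpr inferInstance)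
  show Module.Flat B R
  refine LocalCrit.flat_of_forall_quotient_pow (B := R) (J.map (algebraMap T B)) ?_ fun n => ?_
  · have hR : IsAdicComplete (K.map (algebraMap T' R)) R :=
      AdicCompletion.isAdicComplete_self _ (IsNoetherian.noetherian K)
    refine le_trans ?_ (IsAdicComplete.le_jacobson_bot (K.map (algebraMap T' R)))
    have h := Ideal.map_mono (f := algebraMap T' R) hK
    rw [Ideal.map_map] at h
    rw [Ideal.map_map, ← IsScalarTower.algebraMap_eq]
    exact h
  · rw [← Ideal.map_pow]
    refine RigPt7.keepsInjective_of_surjective_mod (A := T) (J ^ n) fun r => ?_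
    exact RigPt7.exists_sub_mem_pow J (IsNoetherian.noetherian _) r n

end Groth.Agent.H1C2
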